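import Groth.Agent.SheafHomX.Proper
import Groth.Agent.QCoh.ProperOver2
import Groth.Agent.QCoh.DevissageP
import Groth.Agent.KZ.Localization
import Groth.Agent.Algz7.PullbackFormal
import Groth.Agent.ExistEasy.Tricky

/-!
# Supports of formal coherent modules
-/

set_option autoImplicit false
set_option linter.style.haveILetI false
set_option backward.isDefEq.respectTransparency false
set_option backward.isDefEq.respectTransparency.types false

universe u

open CategoryTheory CategoryTheory.Limits AlgebraicGeometry TopologicalSpace Opposite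

noncomputable section

namespace Groth.Agent.H9ProperSupp

open Groth.Agent

attribute [local instance] QCoh.hasFiniteBiproducts

variable {A : Type u} [CommRing A] {X : Scheme.{u}} [X.Over (Spec (CommRingCat.of A))]

/-- The support is proper over the base. -/
def PS (M : X.Modules) : Prop := ClSub.IsProperOver (X ↘ Spec (CommRingCat.of A)) (CohB1.support M)

theorem isClosed_support {M : X.Modules} (hM : Coh.IsCoh M) : IsClosed (CohB1.support M) :=
  QCoh.isClosed_support_of_ft hM.2

omit [X.Over (Spec (CommRingCat.of A))] in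
/-- Vanishing on an open, read on supports. -/
theorem isZero_restrict_iff {V : X.Opens} {M : X.Modules} (hM : Coh.IsCoh M) :
    IsZero (M.restrict V.ι) ↔ ∀ x ∈ V, x ∉ CohB1.support M :=
  ⟨fun h _ hx hs => KZ.Localization.isZero_restrict_iff hM h hs hx, SheafHomX.restrict_eq_zero_of_notMem V⟩

theorem PS.of_subset {M N : X.Modules} (h : PS (A := A) M) (hN : Coh.IsCoh N)
    (hs : CohB1.support N ⊆ CohB1.support M) : PS (A := A) N :=
  QCoh.IsProperOver.subset h (isClosed_support hN) hs

theorem PS.of_epi {M N : X.Modules} (h : PS (A := A) M) (hM : Coh.IsCoh M) (hN : Coh.IsCoh N) (g : M ⟶ N)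
    [Epi g] : PS (A := A) N :=
  h.of_subset hN (QCoh.support_of_epi hM.1 hN.1 g)

theorem PS.of_mono {M N : X.Modules} (h : PS (A := A) M) (hM : Coh.IsCoh M) (hN : Coh.IsCoh N) (g : N ⟶ M)
    [Mono g] : PS (A := A) N :=
  h.of_subset hN (QCoh.mem_support_of_mono hN.1 hM.1 g)

omit [X.Over (Spec (CommRingCat.of A))] in
theorem support_biprod_subset [IsNoetherian X] {M N : X.Modules} (hM : Coh.IsCoh M) (hN : Coh.IsCoh N) :
    CohB1.support (M ⊞ N) ⊆ CohB1.support M ∪ CohB1.support N := by
  intro x hx
  by_contra hne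
  let V : X.Opens := ⟨(CohB1.support M ∪ CohB1.support N)ᶜ,
    ((isClosed_support hM).union (isClosed_support hN)).isOpen_compl⟩
  have h1 : IsZero (M.restrict V.ι) := SheafHomX.restrict_eq_zero_of_notMem V fun y hy h => hy (Or.inl h)
  have h2 : IsZero (N.restrict V.ι) := SheafHomX.restrict_eq_zero_of_notMem V fun y hy h => hy (Or.inr h)
  refine (isZero_restrict_iff (ExistEasy.isCoh_biprod hM hN)).1 ?_ x (show x ∈ V from hne) hx
  haveI : PreservesBinaryBiproducts (Scheme.Modules.restrictFunctor V.ι) :=
    preservesBinaryBiproducts_of_preservesBiproducts _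
  refine IsZero.of_iso ?_ ((Scheme.Modules.restrictFunctor V.ι).mapBiprod M N)
  exact (biprod_isZero_iff _ _).2 ⟨h1, h2⟩

theorem PS.biprod [IsNoetherian X] [LocallyOfFiniteType (X ↘ Spec (CommRingCat.of A))] {M N : X.Modules}
    (hM : PS (A := A) M) (hN : PS (A := A) N) (hMc : Coh.IsCoh M) (hNc : Coh.IsCoh N) :
    PS (A := A) (M ⊞ N) :=
  QCoh.IsProperOver.subset (QCoh.IsProperOver.union hM hN) (isClosed_support (ExistEasy.isCoh_biprod hMc hNc))
    (support_biprod_subset hMc hNc)

/-- A quotient by `I ^ k` (`k ≥ 1`) of a module killed by a power of `I` is zero only if the module is. -/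
theorem isZero_of_isQuot {I : Ideal A} {M N : X.Modules} {g : M ⟶ N} {k : ℕ}
    (hg : Algz7.IsQuot (I ^ (k + 1)) g) (hN : IsZero N) (hM : Formal.KilledBy (I ^ (k + 2)) M) : IsZero M := by
  have hbase : ∀ {P : X.Modules} (φ : M ⟶ P), (∀ a ∈ I ^ (k + 1), Formal.smulMod A M a ≫ φ = 0) → φ = 0 :=
    fun {P} φ hφ => by
      obtain ⟨ψ, hψ⟩ := hg.desc φ (Sigma.hom_ext _ _ fun a => by
        rw [comp_zero, ← Category.assoc, Formal.smulFamily, Sigma.ι_desc]
        exact hφ a.1 a.2)
      rw [← hψ, hN.eq_of_src ψ 0, comp_zero]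
  refine (IsZero.iff_id_eq_zero M).2 (hbase _ fun a ha => ?_)
  rw [Category.comp_id]
  refine hbase _ fun b hb => ?_
  rw [← FFun.smulMod_mul, hM]
  refine Ideal.pow_le_pow_right (by omega) (show a * b ∈ I ^ ((k + 1) + (k + 1)) from ?_)
  rw [pow_add]
  exact Ideal.mul_mem_mul ha hb

/-- All terms of a formal module are supported where the zeroth is. -/
theorem support_subset_zero {I : Ideal A} {G : ℕᵒᵖ ⥤ X.Modules} (hG : Formal.IsCohFormal I G) (n : ℕ) :
    CohB1.support (G.obj (op n)) ⊆ CohB1.support (G.obj (op 0)) := by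
  intro x hx
  by_contra hne
  let V : X.Opens := ⟨(CohB1.support (G.obj (op 0)))ᶜ, (isClosed_support (hG.1 0)).isOpen_compl⟩
  letI : (V : Scheme.{u}).Over (Spec (CommRingCat.of A)) := ⟨V.ι ≫ (X ↘ Spec (CommRingCat.of A))⟩
  have hR := Algz7.isCohFormal_restrict V.ι rfl hG
  have key : ∀ m, IsZero ((G.obj (op m)).restrict V.ι) := fun m => by
    induction m with
    | zero => exact SheafHomX.restrict_eq_zero_of_notMem V fun y hy h => hy h
    | succ m ih => exact isZero_of_isQuot (hR.2.2 m) ih (hR.2.1 (m + 1))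
  exact (isZero_restrict_iff (hG.1 n)).1 (key n) x (show x ∈ V from hne) hx

/-- Completion commutes with restriction to an open. -/
theorem nonempty_completion_restrict (I : Ideal A) (U : X.Opens) [(U : Scheme.{u}).Over (Spec (CommRingCat.of A))]
    (hU : U.ι ≫ (X ↘ Spec (CommRingCat.of A)) = (U : Scheme.{u}) ↘ Spec (CommRingCat.of A)) (M : X.Modules) :
    Nonempty (Formal.completion I M ⋙ Scheme.Modules.restrictFunctor U.ι ≅ Formal.completion I (M.restrict U.ι)) :=
  Algz7.nonempty_iso_of_isQuot (Iso.refl _)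
    (fun n => (Scheme.Modules.restrictFunctor U.ι).map (Formal.modPowπ I (n + 1) M))
    (fun n => Formal.modPowπ I (n + 1) (M.restrict U.ι))
    (fun n => Algz7.IsQuot.restrict U.ι hU (Algz7.isQuot_modPowπ I (n + 1) M))
    (fun n => Algz7.isQuot_modPowπ I (n + 1) _)
    (fun n => by
      change (Scheme.Modules.restrictFunctor U.ι).map _ ≫
        (Scheme.Modules.restrictFunctor U.ι).map ((Formal.completion I M).map _) = _
      rw [Algz7.completion_map_succ]
      exact ((Scheme.Modules.restrictFunctor U.ι).map_comp _ _).symm.trans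
        (congrArg _ (Formal.modPowπ_trans I (n + 1) M)))
    (fun n => by rw [Algz7.completion_map_succ]; exact Formal.modPowπ_trans I (n + 1) _)

end Groth.Agent.H9ProperSupp

end
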