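import Groth.Agent.ExistEasy.ChowNR.Exists
import Groth.Agent.S0385

/-!
# Chow's lemma without properness
-/

set_option autoImplicit false
set_option linter.style.haveILetI false
universe u

open CategoryTheory CategoryTheory.Limits AlgebraicGeometry TopologicalSpace Opposite MvPolynomial

noncomputable section

namespace Groth.Agent.H9ProperSupp

open Groth.Agent Groth.Agent.PnCoh Groth.Agent.PnCoh.Chow ExistEasy.ChowNR ExistEasy.ChowNR.Data

set_option backward.isDefEq.respectTransparency false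

theorem isIso_π' {A : Type u} [CommRing A] {X : Scheme.{u}} {f : X ⟶ Spec (CommRingCat.of A)} (D : ExistEasy.ChowNR.Data f)
    [IsSeparated f] : IsIso (D.π ∣_ D.j.opensRange) := by
  let U₀ := D.j.opensRange
  let g₁ : U₀.toScheme ⟶ D.X' := D.j.isoOpensRange.inv ≫ D.γ
  have hg₁ : g₁ ≫ D.π = U₀.ι := by rw [Category.assoc, D.γ_π, Scheme.Hom.isoOpensRange_inv_comp]
  have hr : Set.range g₁ ⊆ Set.range (D.π ⁻¹ᵁ U₀).ι := by
    rintro _ ⟨y, rfl⟩
    rw [Scheme.Opens.range_ι]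
    show D.π (g₁ y) ∈ U₀
    rw [← Scheme.Hom.comp_apply, hg₁]
    exact y.2
  let g := IsOpenImmersion.lift (D.π ⁻¹ᵁ U₀).ι g₁ hr
  have hg : g ≫ (D.π ⁻¹ᵁ U₀).ι = g₁ := IsOpenImmersion.lift_fac _ _ _
  refine ⟨g, ?_, ?_⟩
  · haveI := isSTDom_restrict D.γ (D.π ⁻¹ᵁ U₀)
    haveI : X.IsSeparated → True := fun _ => trivial
    rw [← cancel_mono (D.π ⁻¹ᵁ U₀).ι, Category.id_comp, Category.assoc, hg]
    haveI : IsSeparated D.π := inferInstance
    refine ext_of_isSTDom D.π ?_ (D.γ ∣_ (D.π ⁻¹ᵁ U₀)) ?_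
    · rw [Category.assoc, hg₁, morphismRestrict_ι]
    · have h2 : (D.γ ∣_ (D.π ⁻¹ᵁ U₀)) ≫ (D.π ∣_ U₀) ≫ D.j.isoOpensRange.inv =
          (D.γ ⁻¹ᵁ (D.π ⁻¹ᵁ U₀)).ι := by
        rw [← cancel_mono D.j, Category.assoc, Category.assoc, Scheme.Hom.isoOpensRange_inv_comp,
          morphismRestrict_ι, morphismRestrict_ι_assoc, D.γ_π]
      show _ ≫ (D.π ∣_ U₀) ≫ D.j.isoOpensRange.inv ≫ D.γ = _
      rw [reassoc_of% h2, morphismRestrict_ι]
  · rw [← cancel_mono U₀.ι, Category.assoc, morphismRestrict_ι, reassoc_of% hg, hg₁, Category.id_comp]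

/-- A separated scheme of finite type over an affine base has a proper modification open in a proper scheme. -/
theorem exists_chow_open {A : Type u} [CommRing A] {X : Scheme.{u}} (f : X ⟶ Spec (CommRingCat.of A))
    [Nonempty X] [IsNoetherian X] [IsSeparated f] [LocallyOfFiniteType f] [QuasiCompact f] :
    ∃ (T : Scheme.{u}) (q : T ⟶ Spec (CommRingCat.of A)) (W : T.Opens) (π : (W : Scheme.{u}) ⟶ X),
      IsProper q ∧ W.ι ≫ q = π ≫ f ∧ IsProper π ∧
      ∃ U : X.Opens, (U : Set X).Nonempty ∧ IsIso (π ∣_ U) := by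
  obtain ⟨D, hD⟩ := exists_data f
  haveI := D.mono_p
  haveI := isProper_toSpec D.N A
  haveI : LocallyOfFiniteType (D.p ≫ CohB1.ProjSpace.toSpec D.N A) := by rw [← D.π_f]; infer_instance
  haveI : QuasiCompact (D.p ≫ CohB1.ProjSpace.toSpec D.N A) := by rw [← D.π_f]; infer_instance
  haveI : LocallyOfFiniteType D.p := locallyOfFiniteType_of_comp D.p (CohB1.ProjSpace.toSpec D.N A)
  haveI : QuasiCompact D.p := QuasiCompact.of_comp D.p (CohB1.ProjSpace.toSpec D.N A)
  haveI : CompactSpace (CohB1.ProjSpace D.N A) :=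
    QuasiCompact.compactSpace_of_compactSpace (CohB1.ProjSpace.toSpec D.N A)
  haveI : QuasiSeparatedSpace (CohB1.ProjSpace D.N A) :=
    quasiSeparatedSpace_of_quasiSeparated (CohB1.ProjSpace.toSpec D.N A)
  haveI : LocallyQuasiFinite D.p := locallyQuasiFinite_iff_finite_preimage_singleton.2 fun y =>
    Set.Subsingleton.finite fun a ha b hb => D.p.injective (ha.trans hb.symm)
  obtain ⟨T, j, σ, hj, -, hσ, hjσ⟩ := S0385.result D.p
  haveI := hj
  haveI := hσ
  refine ⟨T, σ ≫ CohB1.ProjSpace.toSpec D.N A, j.opensRange, j.isoOpensRange.inv ≫ D.π, inferInstance, ?_,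
    inferInstance, D.j.opensRange, hD, ?_⟩
  · rw [Category.assoc, D.π_f, ← hjσ]
    simp
  · haveI := isIso_π' D
    rw [morphismRestrict_comp]
    infer_instance

end Groth.Agent.H9ProperSupp
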