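import Groth.Agent.H9ProperSupp.Extend
import Groth.Agent.H9ProperSupp.Chow
import Groth.Agent.H9ProperSupp.Tricky
import Groth.Agent.ExistEasy.PP.Existence
import Groth.Agent.QCoh.AnnIdeal

/-!
# Grothendieck's existence theorem for modules with proper support
-/

set_option autoImplicit false
set_option linter.style.haveILetI false
set_option backward.isDefEq.respectTransparency false
set_option backward.isDefEq.respectTransparency.types false

universe u

open CategoryTheory CategoryTheory.Limits AlgebraicGeometry TopologicalSpace Opposite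

noncomputable section

namespace Groth.Agent.H9ProperSupp

open Groth.Agent Groth.Agent.FFun Groth.Agent.ExistEasy

variable {A : Type u} [CommRing A]

/-- The support of a direct image lies in the image of the support. -/
theorem support_push_subset_of_closed {X Y : Scheme.{u}} (f : X ⟶ Y) {F : X.Modules}
    (hP : Coh.IsQCoh ((Scheme.Modules.pushforward f).obj F)) {C : Set Y} (hC : IsClosed C)
    (h : ∀ x ∈ CohB1.support F, f x ∈ C) : CohB1.support ((Scheme.Modules.pushforward f).obj F) ⊆ C := by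
  intro y hy
  by_contra hyC
  obtain ⟨_, ⟨O, hO, rfl⟩, hyO, hOC⟩ :=
    Y.isBasis_affineOpens.exists_subset_of_mem_open (show y ∈ Cᶜ from hyC) hC.isOpen_compl
  replace hO : IsAffineOpen O := hO
  haveI : Subsingleton Γ((Scheme.Modules.pushforward f).obj F, O) := by
    show Subsingleton Γ(F, f ⁻¹ᵁ O)
    exact CohBasic.subsingleton_sections_of_stalks _ fun x hx => not_not.1 fun hne => hOC hx (h x hne)
  obtain ⟨m, hm⟩ := (QCoh.mem_support_iff hP hO hyO).1 hy
  exact hm 1 (by rw [Scheme.basicOpen_of_isUnit _ isUnit_one]; exact hyO) (Subsingleton.elim _ _)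

/-- A direct image by a proper morphism over the base keeps proper support. -/
theorem PS.push {X Y : Scheme.{u}} [X.Over (Spec (CommRingCat.of A))] [Y.Over (Spec (CommRingCat.of A))]
    [LocallyOfFiniteType (X ↘ Spec (CommRingCat.of A))] [LocallyOfFiniteType (Y ↘ Spec (CommRingCat.of A))]
    [IsLocallyNoetherian Y] (f : X ⟶ Y) [IsProper f]
    (hf : f ≫ (Y ↘ Spec (CommRingCat.of A)) = X ↘ Spec (CommRingCat.of A)) {F : X.Modules}
    (hF : Coh.IsCoh F) (hs : PS (A := A) F) : PS (A := A) ((Scheme.Modules.pushforward f).obj F) := by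
  have hC := QCoh.IsProperOver.image hf hs fun {S} i _ _ => inferInstance
  have hP := isCoh_pushforward_proper f hF
  exact QCoh.IsProperOver.subset hC (isClosed_support hP)
    (support_push_subset_of_closed f hP.1 hC.choose fun x hx => ⟨x, hx, rfl⟩)

/-- A pullback by a proper morphism over the base keeps proper support. -/
theorem PS.pull {X Y : Scheme.{u}} [X.Over (Spec (CommRingCat.of A))] [Y.Over (Spec (CommRingCat.of A))]
    [LocallyOfFiniteType (X ↘ Spec (CommRingCat.of A))] [LocallyOfFiniteType (Y ↘ Spec (CommRingCat.of A))]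
    (f : X ⟶ Y) [IsProper f]
    (hf : f ≫ (Y ↘ Spec (CommRingCat.of A)) = X ↘ Spec (CommRingCat.of A)) {M : Y.Modules}
    (hM : Coh.IsCoh M) (hs : PS (A := A) M) : PS (A := A) ((Scheme.Modules.pullback f).obj M) := by
  unfold PS
  rw [QCoh.support_pullback f hM.1 hM.2]
  exact QCoh.IsProperOver.preimage hf hs

variable [IsNoetherianRing A] (I : Ideal A) [IsAdicComplete I A]

/-- Existence for all closed subschemes with image in a given closed subset. -/
theorem exists_algebraization_ps_aux (X : Scheme.{u}) [AlgebraicGeometry.IsNoetherian X] (Z : Closeds X) :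
    ∀ (Y : Scheme.{u}) [Y.Over (Spec (CommRingCat.of A))] [IsSeparated (Y ↘ Spec (CommRingCat.of A))]
      [LocallyOfFiniteType (Y ↘ Spec (CommRingCat.of A))] [QuasiCompact (Y ↘ Spec (CommRingCat.of A))]
      (j : Y ⟶ X) [IsClosedImmersion j], Set.range j ⊆ (Z : Set X) →
      ∀ G : ℕᵒᵖ ⥤ Y.Modules, Formal.IsCohFormal I G → PS (A := A) (G.obj (op 0)) →
        ∃ M : Y.Modules, Coh.IsCoh M ∧ PS (A := A) M ∧ Nonempty (Formal.completion I M ≅ G) := by
  induction Z using WellFoundedLT.induction with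
  | _ Z ih =>
  intro Y _ _ _ _ j _ hj G hG hG0
  haveI : CompactSpace Y := QuasiCompact.compactSpace_of_compactSpace (Y ↘ Spec (CommRingCat.of A))
  haveI : IsLocallyNoetherian Y := LocallyOfFiniteType.isLocallyNoetherian (Y ↘ Spec (CommRingCat.of A))
  haveI : AlgebraicGeometry.IsNoetherian Y := { __ := ‹IsLocallyNoetherian Y›, __ := ‹CompactSpace Y› }
  rcases isEmpty_or_nonempty Y with hY | hY
  · have hz : ∀ N : Y.Modules, Coh.IsQCoh N → IsZero N := fun N hN =>
      QCoh.isZero_of_cover hN (ι := PEmpty.{1}) (fun i => i.elim) (fun i => i.elim) (fun y => (IsEmpty.false y).elim)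
        (fun i => i.elim)
    refine ⟨G.obj (op 0), hG.1 0, hG0, ⟨NatIso.ofComponents
      (fun n => (hz _ (isCoh_modJ _ (hG.1 0)).1).iso (hz _ (hG.1 n.unop).1))
      (fun {n m} f => (hz _ (isCoh_modJ _ (hG.1 0)).1).eq_of_src _ _)⟩⟩
  -- Chow
  obtain ⟨T, q, W, π, hq, hqπ, hπ, U, hUne, hUiso⟩ := exists_chow_open (Y ↘ Spec (CommRingCat.of A))
  haveI := hq
  haveI := hπ
  letI : T.Over (Spec (CommRingCat.of A)) := ⟨q⟩
  letI : (W : Scheme.{u}).Over (Spec (CommRingCat.of A)) := ⟨π ≫ (Y ↘ Spec (CommRingCat.of A))⟩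
  haveI : IsProper (T ↘ Spec (CommRingCat.of A)) := hq
  haveI : LocallyOfFiniteType ((W : Scheme.{u}) ↘ Spec (CommRingCat.of A)) :=
    inferInstanceAs (LocallyOfFiniteType (π ≫ (Y ↘ Spec (CommRingCat.of A))))
  have hG' : Formal.IsCohFormal I (G ⋙ Scheme.Modules.pullback π) := Algz7.isCohFormal_pullback π rfl hG
  obtain ⟨F, hF, hFs, ⟨β⟩⟩ := exists_algebraization_open (A := A) (T := T) W hqπ I hG' (PS.pull π rfl (hG.1 0) hG0)
  let C : Closeds Y := ⟨(U : Set Y)ᶜ, U.2.isClosed_compl⟩
  let J : Y.IdealSheafData := Scheme.IdealSheafData.vanishingIdeal C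
  have hJ : (J.support : Set Y) = (U : Set Y)ᶜ := Scheme.IdealSheafData.coe_support_vanishingIdeal C
  have hJU : J.support.compl = U := by
    refine Opens.ext ?_
    show (J.support : Set Y)ᶜ = _
    rw [hJ, compl_compl]
  obtain ⟨α, t, hα⟩ := push_pull π rfl hF I hG β.symm J (hJU ▸ hUiso)
  refine exists_algebraization_two_ps J hG (fun e => ⟨fun M₁ M₂ h₁ h₂ hs₁ _ _ _ ψ => ?_,
    fun G₁ hG₁ hG₁0 hK₁ => ?_⟩) hG0
    (isCoh_pushforward_proper π hF) (PS.push π rfl hF hFs) α (t + 1) (fun n => (hα n).1) (fun n => (hα n).2)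
  · exact SheafHomX.existsUnique_of_proper I h₁ h₂ hs₁ Set.inter_subset_left ψ
  -- the smaller closed subscheme
  let S : Scheme.{u} := (J ^ e).subscheme
  let k : S ⟶ Y := (J ^ e).subschemeι
  letI : S.Over (Spec (CommRingCat.of A)) := ⟨k ≫ (Y ↘ Spec (CommRingCat.of A))⟩
  haveI : IsSeparated (S ↘ Spec (CommRingCat.of A)) :=
    inferInstanceAs (IsSeparated (k ≫ (Y ↘ Spec (CommRingCat.of A))))
  haveI : LocallyOfFiniteType (S ↘ Spec (CommRingCat.of A)) :=
    inferInstanceAs (LocallyOfFiniteType (k ≫ (Y ↘ Spec (CommRingCat.of A))))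
  haveI : QuasiCompact (S ↘ Spec (CommRingCat.of A)) :=
    inferInstanceAs (QuasiCompact (k ≫ (Y ↘ Spec (CommRingCat.of A))))
  haveI : CompactSpace S := QuasiCompact.compactSpace_of_compactSpace (S ↘ Spec (CommRingCat.of A))
  haveI : IsLocallyNoetherian S := LocallyOfFiniteType.isLocallyNoetherian (S ↘ Spec (CommRingCat.of A))
  haveI : AlgebraicGeometry.IsNoetherian S := { __ := ‹IsLocallyNoetherian S›, __ := ‹CompactSpace S› }
  have hrange : Set.range k ⊆ (U : Set Y)ᶜ := by
    rw [Scheme.IdealSheafData.range_subschemeι, ← hJ]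
    cases e with
    | zero =>
      rw [pow_zero]
      intro y hy
      rw [Scheme.IdealSheafData.one_eq_top, Scheme.IdealSheafData.support_top] at hy
      exact hy.elim
    | succ e => rw [Scheme.IdealSheafData.support_pow_succ]
  let Z' : Closeds X := ⟨j '' (U : Set Y)ᶜ, j.isClosedEmbedding.isClosedMap _ U.2.isClosed_compl⟩
  have hlt : Z' < Z := by
    refine lt_of_le_of_ne (fun x hx => hj (Set.image_subset_range _ _ hx)) fun he => ?_
    obtain ⟨u, hu⟩ := hUne
    have : j u ∈ (Z' : Set X) := he ▸ hj ⟨u, rfl⟩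
    obtain ⟨v, hv, hvu⟩ := this
    exact hv ((j.isClosedEmbedding.injective hvu) ▸ hu)
  obtain ⟨M, hM, hMs, ⟨γ⟩⟩ := ih Z' hlt S (k ≫ j) (by
    rintro _ ⟨w, rfl⟩
    exact ⟨k w, hrange ⟨w, rfl⟩, rfl⟩) (G₁ ⋙ Scheme.Modules.pullback k) (Algz7.isCohFormal_pullback k rfl hG₁)
    (PS.pull k rfl (hG₁.1 0) hG₁0)
  refine ⟨(Scheme.Modules.pushforward k).obj M, QCoh.isCoh_pushforward_finite k hM, PS.push k rfl hM hMs,
    fun V a ha m => ?_,
    ⟨pushCompIso k rfl I M hM ≪≫ Functor.isoWhiskerRight γ (Scheme.Modules.pushforward k) ≪≫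
      (NatIso.ofComponents (fun n =>
        haveI := isIso_ηK_of_killed (J ^ e) (hG₁.1 n.unop).1 (hK₁ n.unop)
        asIso (ηK (J ^ e) (G₁.obj n)))
        (fun {n m} f => (ηK_natural (J ^ e) (G₁.map f)).symm)).symm⟩⟩
  show (k.app V.1 a) • (show Γ(M, k ⁻¹ᵁ V.1) from m) = 0
  have h0 : k.app V.1 a = 0 := by
    rw [← RingHom.mem_ker, ← Scheme.Hom.ker_apply, Scheme.IdealSheafData.ker_subschemeι]
    exact ha
  rw [h0]
  exact zero_smul _ _

/-- Existence for modules with proper support on a separated scheme of finite type. -/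
theorem exists_algebraization_ps (X : Scheme.{u}) [X.Over (Spec (CommRingCat.of A))]
    [IsSeparated (X ↘ Spec (CommRingCat.of A))] [LocallyOfFiniteType (X ↘ Spec (CommRingCat.of A))]
    [QuasiCompact (X ↘ Spec (CommRingCat.of A))] {G : ℕᵒᵖ ⥤ X.Modules} (hG : Formal.IsCohFormal I G)
    (h0 : PS (A := A) (G.obj (op 0))) :
    ∃ M : X.Modules, Coh.IsCoh M ∧ PS (A := A) M ∧ Nonempty (Formal.completion I M ≅ G) := by
  haveI : CompactSpace X := QuasiCompact.compactSpace_of_compactSpace (X ↘ Spec (CommRingCat.of A))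
  haveI : IsLocallyNoetherian X := LocallyOfFiniteType.isLocallyNoetherian (X ↘ Spec (CommRingCat.of A))
  haveI : AlgebraicGeometry.IsNoetherian X := { __ := ‹IsLocallyNoetherian X›, __ := ‹CompactSpace X› }
  exact exists_algebraization_ps_aux I X ⊤ X (𝟙 X) (fun x _ => trivial) G hG h0

end Groth.Agent.H9ProperSupp

end
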