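import Groth.Agent.H9Existence.ClosedSystem
import Groth.Agent.H9ProperSupp.Existence
import Groth.Agent.CohBasic.PushSupp

/-! Algebraization of formal closed subschemes with proper reduction of a separated scheme of finite type. -/

set_option autoImplicit false
set_option linter.style.haveILetI false
set_option backward.isDefEq.respectTransparency false
set_option backward.isDefEq.respectTransparency.types false

universe u

open CategoryTheory CategoryTheory.Limits AlgebraicGeometry TopologicalSpace Opposite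

attribute [local instance] HasDerivedCategory.standard

noncomputable section

namespace Groth.Agent.H9Existence

open Groth.Agent
open Groth.Agent.AmpleVan (scal)

variable {A : Type u} [CommRing A]

/-- A coherent module with proper support and without reduction vanishes. -/
theorem isZero_of_le_smul_ps {X Z : Scheme.{u}} [X.Over (Spec (CommRingCat.of A))] {J : Ideal A}
    {i : Z ⟶ X} {q : Z ⟶ Spec (CommRingCat.of (A ⧸ J))}
    (sq : IsPullback i q (X ↘ Spec (CommRingCat.of A)) (Spec.map (CommRingCat.ofHom (Ideal.Quotient.mk J))))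
    (hJ : J ≤ Ideal.jacobson ⊥) {C : X.Modules} (hC : Coh.IsCoh C) (hCs : H9ProperSupp.PS (A := A) C)
    (h : ∀ U : X.affineOpens, (⊤ : Submodule Γ(X, U.1) Γ(C, U.1)) ≤ J.map (scal A U.1) • ⊤) : IsZero C := by
  haveI : IsClosedImmersion i :=
    MorphismProperty.of_isPullback sq.flip (IsClosedImmersion.spec_of_surjective _ Ideal.Quotient.mk_surjective)
  refine isZero_of_le_smul_aux sq hC h fun x hx => ?_
  obtain ⟨hcl, hP⟩ := hCs
  let j := (Scheme.IdealSheafData.vanishingIdeal ⟨CohB1.support C, hcl⟩).subschemeι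
  haveI : IsProper (j ≫ (X ↘ Spec (CommRingCat.of A))) := hP
  refine exists_specializes_range_aux sq hJ x ?_
  have hsub : closure {x} ⊆ Set.range j := by
    rw [QCoh.range_vanishing]
    exact hcl.closure_subset_iff.2 (Set.singleton_subset_iff.2 hx)
  rw [← Set.image_preimage_eq_of_subset hsub, ← Set.image_comp]
  exact (j ≫ (X ↘ Spec (CommRingCat.of A))).isClosedMap _ (isClosed_closure.preimage j.continuous)

section System

variable [IsNoetherianRing A] {I : Ideal A} [IsAdicComplete I A]
  {P : Scheme.{u}} [P.Over (Spec (CommRingCat.of A))]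
  (S : AmpleVan.AdicSys A I) (r : ∀ n, S.X n ⟶ P) [∀ n, IsClosedImmersion (r n)]
  (hr : ∀ n, r n ≫ (P ↘ Spec (CommRingCat.of A)) = S.X n ↘ Spec (CommRingCat.of A))
  (ht : ∀ n, S.i n ≫ r (n + 1) = r n)

set_option maxHeartbeats 1000000 in
include hr ht in
/-- A formal closed subscheme with proper reduction is the completion of a proper closed subscheme. -/
theorem exists_closed_of_system_ps [IsSeparated (P ↘ Spec (CommRingCat.of A))]
    [LocallyOfFiniteType (P ↘ Spec (CommRingCat.of A))] [QuasiCompact (P ↘ Spec (CommRingCat.of A))]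
    (hp : IsProper (S.p 0)) :
    ∃ (W : Scheme.{u}) (ι : W ⟶ P) (e : ∀ n, S.X n ⟶ W), IsClosedImmersion ι ∧
      IsProper (ι ≫ (P ↘ Spec (CommRingCat.of A))) ∧ (∀ n, e n ≫ ι = r n) ∧
      ∀ n, IsPullback (e n) (S.p n) (ι ≫ (P ↘ Spec (CommRingCat.of A))) (CohB1.specQuot I n) := by
  haveI : IsLocallyNoetherian P := LocallyOfFiniteType.isLocallyNoetherian (P ↘ Spec (CommRingCat.of A))
  let O := Coh.structureModule P
  have hO : Coh.IsQCoh O := QCoh.isQCoh_structureModule
  have hOc : Coh.IsCoh O :=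
    KRRReg.isCoh_of_finLocFree (ParaFX.FlatDesc.isFinLocFree_of_invertible InvX.isInvertible_structureModule)
  choose g hug hquot using exists_trans S r hr ht
  let G : ℕᵒᵖ ⥤ P.Modules := Functor.ofOpSequence (X := G0 S r) g
  have hG : Formal.IsCohFormal I G := by
    refine ⟨fun n => QCoh.isCoh_pushforward_finite (r n) ?_, fun n a ha => ?_, fun n => ?_⟩
    · haveI := S.isLocallyNoetherian
      exact ZClosLib.isCoh_pullback (r n) hOc
    · show Formal.smulMod A (G0 S r n) a = 0
      rw [← AmpleVan.push_map_smulMod (r n) (hr n), S.smulMod_eq_zero n _ ha, Functor.map_zero]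
    · rw [show G.map (homOfLE (Nat.le_succ n)).op = g n from Functor.ofOpSequence_map_homOfLE_succ g n]
      exact hquot n
  have hr0 : IsClosed (Set.range (r 0)) := (r 0).isClosedEmbedding.isClosed_range
  have hG0 : H9ProperSupp.PS (A := A) (G.obj (op 0)) := by
    haveI : IsProper (r 0 ≫ (P ↘ Spec (CommRingCat.of A))) := by
      rw [hr 0]; exact S.isProper_str₀ hp
    exact QCoh.IsProperOver.subset (QCoh.isProperOver_range (r 0)) (H9ProperSupp.isClosed_support (hG.1 0))
      (H9ProperSupp.support_push_subset_of_closed (r 0) (hG.1 0).1 hr0 fun x _ => ⟨x, rfl⟩)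
  obtain ⟨M, hM, hMs, ⟨c⟩⟩ := H9ProperSupp.exists_algebraization_ps I P hG hG0
  have hkill : ∀ n, Formal.smulFamily (I ^ (n + 1)) O ≫ u0 S r n = 0 := fun n =>
    Algz7.smulFamily_comp_eq_zero (fun a ha => (hG.2.1 n a ha)) _
  choose τ' hτ' using fun n => (Algz7.isQuot_modPowπ I (n + 1) O).desc (u0 S r n) (hkill n)
  let τ : Formal.completion I O ⟶ G := NatTrans.ofOpSequence τ' fun n => by
    haveI := (Algz7.isQuot_modPowπ I (n + 1 + 1) O).epi
    rw [Algz7.completion_map_succ, show G.map (homOfLE (Nat.le_succ n)).op = g n from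
      Functor.ofOpSequence_map_homOfLE_succ g n, ← cancel_epi (Formal.modPowπ I (n + 1 + 1) O)]
    erw [← Category.assoc, Formal.modPowπ_trans, hτ', ← Category.assoc, hτ', hug]
  obtain ⟨φ, hφ, -⟩ := SheafHomX.existsUnique_of_proper I hOc hM hMs Set.inter_subset_right (τ ≫ c.inv)
  let v : ∀ n, M ⟶ G0 S r n := fun n => Formal.modPowπ I (n + 1) M ≫ c.hom.app (op n)
  have hv : ∀ n, Algz7.IsQuot (I ^ (n + 1)) (v n) := fun n => by
    obtain ⟨h0, hiso⟩ := Algz7.isQuot_modPowπ I (n + 1) M
    haveI := hiso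
    haveI : IsIso (c.hom.app (op n)) := inferInstance
    have h1 : Formal.smulFamily (I ^ (n + 1)) M ≫ v n = 0 := by
      rw [← Category.assoc, h0]; exact zero_comp
    refine ⟨h1, ?_⟩
    rw [show cokernel.desc _ (v n) h1 = cokernel.desc _ _ h0 ≫ c.hom.app (op n) from
      coequalizer.hom_ext (by simp [v])]
    infer_instance
  have huv : ∀ n, φ ≫ v n = u0 S r n := fun n => by
    show φ ≫ Formal.modPowπ I (n + 1) M ≫ c.hom.app (op n) = _
    rw [← Category.assoc, ← hφ n]
    show (Formal.modPowπ I (n + 1) O ≫ τ' n ≫ c.inv.app (op n)) ≫ c.hom.app (op n) = _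
    rw [Category.assoc, Category.assoc]
    erw [Iso.inv_hom_id_app, Category.comp_id]
    exact hτ' n
  -- `φ` is epi
  let Q := fun n => pullback (P ↘ Spec (CommRingCat.of A)) (CohB1.specQuot I n)
  haveI : Epi φ := by
    refine Preadditive.epi_of_cokernel_zero ?_
    have hC : Coh.IsCoh (cokernel φ) := Algz7.isCoh_of_epi (cokernel.π φ) hM (QCoh.isQCoh_cokernel hO hM.1 φ)
    have hs : IsClosedImmersion (CohB1.specQuot I 0) :=
      IsClosedImmersion.spec_of_surjective _ Ideal.Quotient.mk_surjective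
    have hCs : H9ProperSupp.PS (A := A) (cokernel φ) := hMs.of_epi hM hC (cokernel.π φ)
    refine IsZero.eq_of_tgt (isZero_of_le_smul_ps (i := pullback.fst (P ↘ Spec (CommRingCat.of A)) (CohB1.specQuot I 0))
      (IsPullback.of_hasPullback _ _) (by rw [zero_add, pow_one]; exact IsAdicComplete.le_jacobson_bot I) hC hCs
      fun U y _ => ?_) _ _
    obtain ⟨z, rfl⟩ := QCoh.app_surjective_of_epi hM.1 hC.1 (cokernel.π φ) U.2 y
    obtain ⟨a, ha⟩ := (QCoh.unit_app_closed (r 0) hO U.2).1 ((v 0).app U.1 z)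
    have h0 : (v 0).app U.1 (z - φ.app U.1 a) = 0 := by
      rw [map_sub, sub_eq_zero, ← ha]
      exact congr(($(huv 0)).app U.1 a).symm
    have h1 := (app_eq_zero_iff_of_isQuot (hv 0) hM.1 U _).1 h0
    have h2 : (cokernel.π φ).app U.1 (z - φ.app U.1 a) = (cokernel.π φ).app U.1 z := by
      rw [map_sub, show (cokernel.π φ).app U.1 (φ.app U.1 a) = 0 from congr(($(cokernel.condition φ)).app U.1 a),
        sub_zero]
    rw [← h2]
    refine Submodule.smul_induction_on h1 (fun c hc t _ => ?_) fun p q hp hq => by rw [map_add]; exact add_mem hp hq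
    rw [Scheme.Modules.Hom.app_smul]
    exact Submodule.smul_mem_smul hc trivial
  let m : Γ(M, ⊤) := φ.app ⊤ (show Γ(O, ⊤) from (1 : Γ(P, ⊤)))
  let K := annIdeal hM.1 m
  have hφU : ∀ (U : P.affineOpens) (a : Γ(P, U.1)),
      φ.app U.1 (a • (show Γ(O, U.1) from (1 : Γ(P, U.1)))) = a • AModX.res M (le_top : U.1 ≤ ⊤) m := fun U a => by
    rw [Scheme.Modules.Hom.app_smul, ← AModX.app_res,
      show AModX.res O (le_top : U.1 ≤ ⊤) (show Γ(O, ⊤) from (1 : Γ(P, ⊤))) = (1 : Γ(P, U.1)) from map_one (AModX.resR _)]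
  have hkerK : ∀ n, (r n).ker = K ⊔ (CohB1.specQuot I n).ker.comap (P ↘ Spec (CommRingCat.of A)) := by
    intro n
    haveI : IsClosedImmersion (CohB1.specQuot I n) :=
      IsClosedImmersion.spec_of_surjective _ Ideal.Quotient.mk_surjective
    refine Scheme.IdealSheafData.ext (funext fun U => ?_)
    have hc : ((CohB1.specQuot I n).ker.comap (P ↘ Spec (CommRingCat.of A))).ideal U = (I ^ (n + 1)).map (scal A U.1) := by
      rw [← FComplLib.ker_of_isPullback (IsPullback.of_hasPullback (P ↘ Spec (CommRingCat.of A)) (CohB1.specQuot I n))]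
      exact AmpleVan.ker_ideal_of_isPullback (IsPullback.of_hasPullback _ _) U
    rw [Scheme.IdealSheafData.ideal_sup, Pi.sup_apply, hc]
    ext a
    rw [← u0_eq_zero_iff S r n U a, ← huv n]
    show (v n).app U.1 (φ.app U.1 (a • _)) = 0 ↔ _
    rw [hφU, app_eq_zero_iff_of_isQuot (hv n) hM.1 U]
    constructor
    · intro h
      have key : ∀ y ∈ (I ^ (n + 1)).map (scal A U.1) • (⊤ : Submodule Γ(P, U.1) Γ(M, U.1)),
          ∃ d ∈ (I ^ (n + 1)).map (scal A U.1), d • AModX.res M (le_top : U.1 ≤ ⊤) m = y := by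
        intro y hy
        refine Submodule.smul_induction_on hy (fun d hd t _ => ?_) ?_
        · obtain ⟨b, rfl⟩ := QCoh.app_surjective_of_epi hO hM.1 φ U.2 t
          refine ⟨d * QCoh.toFn b, Ideal.mul_mem_right _ _ hd, ?_⟩
          rw [mul_smul, ← hφU U (QCoh.toFn b)]
          congr 2
          exact mul_one (QCoh.toFn b)
        · rintro _ _ ⟨d, hd, rfl⟩ ⟨d', hd', rfl⟩
          exact ⟨d + d', add_mem hd hd', add_smul _ _ _⟩
      obtain ⟨d, hd, he⟩ := key _ h
      exact Submodule.mem_sup.2 ⟨a - d, (mem_annIdeal hM.1 m).2 (by rw [sub_smul, he, sub_self]), d, hd, sub_add_cancel a d⟩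
    · intro h
      obtain ⟨b, hb, d, hd, rfl⟩ := Submodule.mem_sup.1 h
      rw [add_smul, (mem_annIdeal hM.1 m).1 hb, zero_add]
      exact Submodule.smul_mem_smul hd trivial
  have hle : ∀ n, K.subschemeι.ker ≤ (r n).ker := fun n => by
    rw [Scheme.IdealSheafData.ker_subschemeι, hkerK]; exact le_sup_left
  have hKM : Set.range K.subschemeι ⊆ CohB1.support M := by
    rw [Scheme.IdealSheafData.range_subschemeι]
    intro x hx
    by_contra hxM
    obtain ⟨_, ⟨U, hU, rfl⟩, hxU, hUM⟩ := P.isBasis_affineOpens.exists_subset_of_mem_open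
      (show x ∈ (CohB1.support M)ᶜ from hxM) (H9ProperSupp.isClosed_support hM).isOpen_compl
    replace hU : IsAffineOpen U := hU
    haveI : Subsingleton Γ(M, U) :=
      CohBasic.subsingleton_sections_of_stalks _ fun y hy => not_not.1 fun hne => hUM hy hne
    have h1 : (1 : Γ(P, U)) ∈ K.ideal ⟨U, hU⟩ := (mem_annIdeal hM.1 m).2 (Subsingleton.elim _ _)
    exact (Scheme.mem_zeroLocus_iff _ _ _).1 ((K.mem_support_iff_of_mem (U := ⟨U, hU⟩) hxU).1 hx) _ h1 (by
      rw [Scheme.basicOpen_of_isUnit _ isUnit_one]; exact hxU)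
  refine ⟨K.subscheme, K.subschemeι, fun n => IsClosedImmersion.lift K.subschemeι (r n) (hle n), inferInstance,
    (QCoh.isProperOver_iff K.subschemeι).1
      (QCoh.IsProperOver.subset hMs K.subschemeι.isClosedEmbedding.isClosed_range hKM),
    fun n => IsClosedImmersion.lift_fac _ _ _, fun n => ?_⟩
  have hw : IsClosedImmersion.lift K.subschemeι (r n) (hle n) ≫ K.subschemeι ≫ (P ↘ Spec (CommRingCat.of A)) =
      S.p n ≫ CohB1.specQuot I n := by
    rw [← Category.assoc, IsClosedImmersion.lift_fac, hr n]; rfl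
  haveI : IsClosedImmersion (CohB1.specQuot I n) :=
    IsClosedImmersion.spec_of_surjective _ Ideal.Quotient.mk_surjective
  have hker : ∀ s : PullbackCone (K.subschemeι ≫ (P ↘ Spec (CommRingCat.of A))) (CohB1.specQuot I n),
      (r n).ker ≤ (s.fst ≫ K.subschemeι).ker := fun s => by
    rw [hkerK]
    refine sup_le ?_ ?_
    · conv_lhs => rw [← Scheme.IdealSheafData.ker_subschemeι K]
      exact Scheme.Hom.le_ker_comp _ _
    · rw [← Scheme.IdealSheafData.le_map_iff_comap_le, Scheme.IdealSheafData.map_ker, Category.assoc, s.condition]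
      exact Scheme.Hom.le_ker_comp _ _
  refine ⟨⟨hw⟩, ⟨PullbackCone.IsLimit.mk _
    (fun s => IsClosedImmersion.lift (r n) (s.fst ≫ K.subschemeι) (hker s))
    (fun s => ?_) (fun s => ?_) fun s φ h₁ _ => ?_⟩⟩
  · rw [← cancel_mono K.subschemeι, Category.assoc, IsClosedImmersion.lift_fac, IsClosedImmersion.lift_fac]
  · rw [← cancel_mono (CohB1.specQuot I n), Category.assoc, ← s.condition, ← hw, ← Category.assoc, ← Category.assoc,
      Category.assoc (IsClosedImmersion.lift (r n) _ _), IsClosedImmersion.lift_fac, IsClosedImmersion.lift_fac,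
      Category.assoc]
  · rw [← cancel_mono (r n), IsClosedImmersion.lift_fac, ← h₁, Category.assoc, IsClosedImmersion.lift_fac]

end System

end Groth.Agent.H9Existence

end
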