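import Groth.Agent.H9ProperSupp.Basic
import Groth.Agent.S0004
import Groth.Agent.S0048
import Groth.Agent.KFlatLib.Scheme.AcyclicPush

/-!
# Formal modules with proper support on an open of a proper scheme
-/

set_option autoImplicit false
set_option linter.style.haveILetI false
set_option backward.isDefEq.respectTransparency false
set_option backward.isDefEq.respectTransparency.types false

universe u

open CategoryTheory CategoryTheory.Limits AlgebraicGeometry TopologicalSpace Opposite

noncomputable section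

namespace Groth.Agent.H9ProperSupp

open Groth.Agent Groth.Agent.FFun

variable {A : Type u} [CommRing A] {T : Scheme.{u}} [T.Over (Spec (CommRingCat.of A))] (U : T.Opens)
  [(U : Scheme.{u}).Over (Spec (CommRingCat.of A))]
  (hU : U.ι ≫ (T ↘ Spec (CommRingCat.of A)) = (U : Scheme.{u}) ↘ Spec (CommRingCat.of A))
  {C : Set T} (hC : IsClosed C) (hCU : C ⊆ (U : Set T))

/-- The complement of a closed set, as an open. -/
abbrev co {T : Scheme.{u}} {C : Set T} (hC : IsClosed C) : T.Opens := ⟨Cᶜ, hC.isOpen_compl⟩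

omit [T.Over (Spec (CommRingCat.of A))] [(U : Scheme.{u}).Over (Spec (CommRingCat.of A))] in
include hC in
/-- A direct image vanishes where the module is not supported. -/
theorem isZero_push_restrict {F : (U : Scheme.{u}).Modules}
    (hs : ∀ x : U, x ∈ CohB1.support F → (x : T) ∈ C) :
    IsZero (((Scheme.Modules.pushforward U.ι).obj F).restrict (co hC).ι) := by
  have h : ∀ O, Subsingleton Γ(((Scheme.Modules.pushforward U.ι).obj F).restrict (co hC).ι, O) := by
    intro O
    show Subsingleton Γ(F, U.ι ⁻¹ᵁ ((co hC).ι ''ᵁ O))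
    refine CohBasic.subsingleton_sections_of_stalks _ fun y hy => not_not.1 fun hne => ?_
    obtain ⟨w, -, hw⟩ := hy
    exact w.2 ((show w.1 = y.1 from hw) ▸ hs y hne)
  refine (IsZero.iff_id_eq_zero _).2 (Scheme.Modules.hom_ext _ _ fun O => ?_)
  ext s
  exact (h O).elim _ _

include hU hC hCU in
/-- The direct image of a quotient by `J` is one, off a closed set missing the support. -/
theorem isQuot_push {J : Ideal A} {M N : (U : Scheme.{u}).Modules} {g : M ⟶ N} (hg : Algz7.IsQuot J g)
    (hM : ∀ x : U, x ∈ CohB1.support M → (x : T) ∈ C) (hN : ∀ x : U, x ∈ CohB1.support N → (x : T) ∈ C) :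
    Algz7.IsQuot J ((Scheme.Modules.pushforward U.ι).map g) := by
  let Φ := Scheme.Modules.pushforward U.ι
  have h0 : Formal.smulFamily J (Φ.obj M) ≫ Φ.map g = 0 := Algz7.smulFamily_comp_eq_zero
    (fun a ha => by rw [← Algz7.pushforward_smulMod U.ι hU, Algz7.killedBy_of_isQuot hg a ha, Functor.map_zero]) _
  refine ⟨h0, ?_⟩
  let d := cokernel.desc _ (Φ.map g) h0
  let V : T.Opens := co hC
  refine KFlatLib.isIso_of_isIso_restrict d fun y => ?_
  by_cases hy : y ∈ (U : Set T)
  · refine ⟨U, hy, ?_⟩
    let R := Scheme.Modules.restrictFunctor U.ι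
    let ε := (Scheme.Modules.restrictAdjunction U.ι).counit
    have hq1 : Algz7.IsQuot J (R.map (cokernel.π (Formal.smulFamily J (Φ.obj M)))) :=
      Algz7.IsQuot.restrict U.ι hU ⟨cokernel.condition _, by
        rw [show cokernel.desc _ (cokernel.π (Formal.smulFamily J (Φ.obj M))) (cokernel.condition _) = 𝟙 _ from
          coequalizer.hom_ext ((cokernel.π_desc _ _ _).trans (Category.comp_id _).symm)]
        infer_instance⟩
    haveI : IsIso (ε.app M) := inferInstance
    haveI : IsIso (ε.app N) := inferInstance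
    have hnat : R.map (Φ.map g) = ε.app M ≫ g ≫ inv (ε.app N) := by
      rw [← Category.assoc, IsIso.eq_comp_inv]
      exact ε.naturality g
    haveI := hg.epi
    haveI : Epi (R.map (Φ.map g)) := by rw [hnat]; infer_instance
    have hq2 : Algz7.IsQuot J (R.map (Φ.map g)) := by
      refine Algz7.IsQuot.mk' _ (Algz7.killedBy_restrict U.ι hU fun a ha => by
        rw [← Algz7.pushforward_smulMod U.ι hU, Algz7.killedBy_of_isQuot hg a ha, Functor.map_zero]) fun φ hφ => ?_
      obtain ⟨ψ, hψ⟩ := hg.desc (inv (ε.app M) ≫ φ) (by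
        refine Sigma.hom_ext _ _ fun a => ?_
        rw [comp_zero, ← Category.assoc, Formal.smulFamily, Sigma.ι_desc, ← Category.assoc]
        erw [Algz7.smulMod_naturality (inv (ε.app M))]
        rw [Category.assoc]
        erw [Algz7.smulMod_comp_eq_zero hφ a.2]
        exact comp_zero)
      exact ⟨ε.app N ≫ ψ, by rw [hnat, Category.assoc, Category.assoc, IsIso.inv_hom_id_assoc, hψ,
        IsIso.hom_inv_id_assoc]⟩
    haveI := hq1.epi
    obtain ⟨χ, hχ⟩ := hq2.desc (R.map (cokernel.π (Formal.smulFamily J (Φ.obj M))))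
      (Algz7.smulFamily_comp_eq_zero (Algz7.killedBy_of_isQuot hq1) _)
    refine ⟨χ, ?_, ?_⟩
    · rw [← cancel_epi (R.map (cokernel.π (Formal.smulFamily J (Φ.obj M)))), ← Category.assoc, ← R.map_comp,
        cokernel.π_desc, hχ, Category.comp_id]
    · rw [← cancel_epi (R.map (Φ.map g)), ← Category.assoc, hχ, ← R.map_comp, cokernel.π_desc, Category.comp_id]
  · refine ⟨V, fun h => hy (hCU h), ?_⟩
    let R := Scheme.Modules.restrictFunctor V.ι
    haveI : Epi (R.map (cokernel.π (Formal.smulFamily J (Φ.obj M)))) := by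
      haveI : R.IsLeftAdjoint := inferInstance
      infer_instance
    have h1 : IsZero (R.obj (cokernel (Formal.smulFamily J (Φ.obj M)))) :=
      IsZero.of_epi_eq_zero (R.map (cokernel.π (Formal.smulFamily J (Φ.obj M))))
        ((isZero_push_restrict U hC hM).eq_of_src _ _)
    exact ⟨0, h1.eq_of_src _ _, (isZero_push_restrict U hC hN).eq_of_src _ _⟩

include hU hC hCU in
/-- The direct image of a formal module supported in a closed subset of `T` inside `U`. -/
theorem isCohFormal_push {I : Ideal A} {G : ℕᵒᵖ ⥤ (U : Scheme.{u}).Modules} (hG : Formal.IsCohFormal I G)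
    (hs : ∀ x : U, x ∈ CohB1.support (G.obj (op 0)) → (x : T) ∈ C) :
    Formal.IsCohFormal I (G ⋙ Scheme.Modules.pushforward U.ι) := by
  have hn : ∀ n, ∀ x : U, x ∈ CohB1.support (G.obj (op n)) → (x : T) ∈ C :=
    fun n x hx => hs x (support_subset_zero hG n hx)
  exact ⟨fun n => CohBasic.isCoh_push_of_support U C hC hCU _ (hG.1 n) (hn n),
    fun n a ha => by
      show Formal.smulMod A ((Scheme.Modules.pushforward U.ι).obj (G.obj (op n))) a = 0
      rw [← Algz7.pushforward_smulMod U.ι hU, hG.2.1 n a ha, Functor.map_zero],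
    fun n => isQuot_push U hU hC hCU (hG.2.2 n) (hn (n + 1)) (hn n)⟩

omit [(U : Scheme.{u}).Over (Spec (CommRingCat.of A))] in
/-- A coherent module on a proper scheme is supported where its reduction is. -/
theorem support_subset_of_reduction [UniversallyClosed (T ↘ Spec (CommRingCat.of A))] [CompactSpace T]
    {I : Ideal A} (hI : I ≤ Ideal.jacobson ⊥) {M : T.Modules} (hM : Coh.IsCoh M) (W : T.Opens)
    (h : CohB1.support (modJ (I ^ 1) M) ⊆ (W : Set T)) : CohB1.support M ⊆ (W : Set T) := by
  intro y hy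
  by_contra hyW
  let S : Set T := CohB1.support M ∩ (W : Set T)ᶜ
  have hS : IsClosed S := (isClosed_support hM).inter W.2.isClosed_compl
  obtain ⟨x, hxS, hxc⟩ := hS.exists_closed_singleton ⟨y, hy, hyW⟩
  let π := T ↘ Spec (CommRingCat.of A)
  have hmax : (π x).asIdeal.IsMaximal := by
    rw [← PrimeSpectrum.isClosed_singleton_iff_isMaximal]
    have := π.isClosedMap _ hxc
    rwa [Set.image_singleton] at this
  have hIx : I ≤ (π x).asIdeal := fun a ha => (Ideal.mem_sInf.1 (hI ha)) ⟨bot_le, hmax⟩
  let V : T.Opens := ⟨(CohB1.support (modJ (I ^ 1) M))ᶜ, (isClosed_support (isCoh_modJ _ hM)).isOpen_compl⟩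
  have hxV : x ∈ V := fun hx => hxS.2 (h hx)
  obtain ⟨_, ⟨O, hO, rfl⟩, hxO, hOV⟩ := T.isBasis_affineOpens.exists_subset_of_mem_open hxV V.2
  replace hO : IsAffineOpen O := hO
  have hz : ∀ s : Γ(M, O), s ∈ (I ^ 1).map (φsec (A := A) O) • (⊤ : Submodule Γ(T, O) Γ(M, O)) := fun s => by
    haveI := CohBasic.subsingleton_sections_of_stalks (M := modJ (I ^ 1) M) O fun z hz => not_not.1 (hOV hz)
    exact mem_of_π_app_eq_zero hM.1 _ hO (Subsingleton.elim _ _)
  haveI := QCoh.finite_of_isFT hM.1 hM.2 hO
  obtain ⟨r, hr1, hr⟩ := Submodule.exists_sub_one_mem_and_smul_eq_zero_of_fg_of_le_smul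
    ((I ^ 1).map (φsec (A := A) O)) (⊤ : Submodule Γ(T, O) Γ(M, O)) Module.Finite.fg_top fun s _ => hz s
  have hxr : x ∈ T.basicOpen r := by
    rw [T.mem_basicOpen r x hxO]
    by_contra hu
    have hle : (I ^ 1).map (φsec (A := A) O) ≤
        (IsLocalRing.maximalIdeal (T.presheaf.stalk x)).comap (T.presheaf.germ O x hxO).hom := by
      rw [Ideal.map_le_iff_le_comap, pow_one]
      intro a ha
      rw [Ideal.mem_comap, Ideal.mem_comap, IsLocalRing.mem_maximalIdeal, mem_nonunits_iff]
      intro hu'
      have h1 : x ∈ T.basicOpen (φsec (A := A) O a) := (T.mem_basicOpen _ x hxO).2 hu'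
      rw [show φsec (A := A) O a = T.presheaf.map (homOfLE le_top).op (Coh.toGlobal π a) from rfl,
        Scheme.basicOpen_res] at h1
      have h2 : π x ∈ (Spec (CommRingCat.of A)).basicOpen
          ((Scheme.ΓSpecIso (CommRingCat.of A)).inv a) := by
        have h3 : x ∈ π ⁻¹ᵁ (Spec (CommRingCat.of A)).basicOpen
            ((Scheme.ΓSpecIso (CommRingCat.of A)).inv a) := by
          rw [Scheme.preimage_basicOpen]
          exact h1.2
        exact h3
      rw [AlgebraicGeometry.basicOpen_eq_of_affine] at h2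
      exact h2 (hIx ha)
    have h1 := hle hr1
    rw [Ideal.mem_comap, map_sub, map_one] at h1
    refine (IsLocalRing.maximalIdeal (T.presheaf.stalk x)).ne_top_iff_one.1 (IsLocalRing.maximalIdeal.isMaximal _).ne_top ?_
    have h2 : (T.presheaf.germ O x hxO).hom r ∈ IsLocalRing.maximalIdeal (T.presheaf.stalk x) := hu
    have := sub_mem h2 h1
    simpa using this
  obtain ⟨m, hm⟩ := (QCoh.mem_support_iff hM.1 hO hxO).1 hxS.1
  exact hm r hxr (hr m trivial)

variable [IsNoetherianRing A] (I : Ideal A) [IsAdicComplete I A] [IsProper (T ↘ Spec (CommRingCat.of A))]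

include hU in
/-- Existence on an open of a proper scheme, for proper supports. -/
theorem exists_algebraization_open {G : ℕᵒᵖ ⥤ (U : Scheme.{u}).Modules} (hG : Formal.IsCohFormal I G)
    (hs : PS (A := A) (G.obj (op 0))) :
    ∃ M : (U : Scheme.{u}).Modules, Coh.IsCoh M ∧ PS (A := A) M ∧ Nonempty (Formal.completion I M ≅ G) := by
  haveI : CompactSpace T := QuasiCompact.compactSpace_of_compactSpace (T ↘ Spec (CommRingCat.of A))
  haveI : IsLocallyNoetherian T := LocallyOfFiniteType.isLocallyNoetherian (T ↘ Spec (CommRingCat.of A))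
  haveI : LocallyOfFiniteType ((U : Scheme.{u}) ↘ Spec (CommRingCat.of A)) := by rw [← hU]; infer_instance
  let C : Set T := U.ι '' CohB1.support (G.obj (op 0))
  have hC : IsClosed C := (QCoh.IsProperOver.image hU hs fun {S} i _ hi => by
    haveI : IsProper ((i ≫ U.ι) ≫ (T ↘ Spec (CommRingCat.of A))) := by rwa [Category.assoc, hU]
    haveI := IsProper.of_comp (i ≫ U.ι) (T ↘ Spec (CommRingCat.of A))
    infer_instance).choose
  have hCU : C ⊆ (U : Set T) := by rintro _ ⟨x, -, rfl⟩; exact x.2
  have hmem : ∀ x : U, x ∈ CohB1.support (G.obj (op 0)) → (x : T) ∈ C := fun x hx => ⟨x, hx, rfl⟩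
  have hGT := isCohFormal_push U hU hC hCU hG hmem
  obtain ⟨M, hM, ⟨e⟩⟩ := (S0004.result A I T).2 _ hGT
  have h0 : CohB1.support (modJ (I ^ 1) M) ⊆ C := fun x hx => by
    by_contra hxC
    refine (isZero_restrict_iff (V := co hC) (isCoh_modJ _ hM)).1 ?_ x hxC hx
    exact IsZero.of_iso (isZero_push_restrict U hC hmem)
      ((Scheme.Modules.restrictFunctor _).mapIso (e.app (op 0)))
  have hsupp : CohB1.support M ⊆ (U : Set T) :=
    support_subset_of_reduction (IsAdicComplete.le_jacobson_bot I) hM U (h0.trans hCU)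
  have hMU : Coh.IsCoh (M.restrict U.ι) := KZ.Localization.isCoh_restrict U.ι hM
  refine ⟨M.restrict U.ι, hMU, ?_, ?_⟩
  · let D : Set T := CohB1.support M
    have hD : IsClosed D := isClosed_support hM
    let i := (Scheme.IdealSheafData.vanishingIdeal ⟨D, hD⟩).subschemeι
    have hi : Set.range i ⊆ Set.range U.ι := by
      rw [QCoh.range_vanishing hD, Scheme.Opens.range_ι]
      exact hsupp
    let l := IsOpenImmersion.lift U.ι i hi
    have hl : l ≫ U.ι = i := IsOpenImmersion.lift_fac _ _ _
    haveI : IsClosedImmersion (l ≫ U.ι) := by rw [hl]; infer_instance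
    haveI : IsClosedImmersion l := IsClosedImmersion.of_comp l U.ι
    haveI : IsProper (l ≫ ((U : Scheme.{u}) ↘ Spec (CommRingCat.of A))) := by
      rw [← hU, ← Category.assoc, hl]; infer_instance
    refine QCoh.IsProperOver.subset (QCoh.isProperOver_range l) (isClosed_support hMU) fun x hx => ?_
    have hx' : U.ι x ∈ D := by
      intro hsub
      refine hx ?_
      exact @Equiv.subsingleton _ _ ((Scheme.Modules.restrictStalkNatIso U.ι x).app M).addCommGroupIsoToAddEquiv.toEquiv hsub
    rw [← QCoh.range_vanishing hD] at hx'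
    obtain ⟨z, hz⟩ := hx'
    refine ⟨z, U.ι.isOpenEmbedding.injective ?_⟩
    rw [← Scheme.Hom.comp_apply, hl]
    exact hz
  · obtain ⟨e1⟩ := nonempty_completion_restrict I U hU M
    exact ⟨e1.symm ≪≫ Functor.isoWhiskerRight e (Scheme.Modules.restrictFunctor U.ι) ≪≫
      Functor.associator _ _ _ ≪≫
      Functor.isoWhiskerLeft G (asIso (Scheme.Modules.restrictAdjunction U.ι).counit) ≪≫ G.rightUnitor⟩

end Groth.Agent.H9ProperSupp

end
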