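import Groth.Agent.H9Existence.IsoFibre
import Groth.Agent.AmpleVan.AdicBase

/-! A map of proper schemes is an isomorphism when all its thickenings are. -/

set_option autoImplicit false
set_option linter.style.haveILetI false
set_option linter.unusedSectionVars false
set_option backward.isDefEq.respectTransparency false
set_option backward.isDefEq.respectTransparency.types false

universe u

open CategoryTheory CategoryTheory.Limits AlgebraicGeometry TopologicalSpace Opposite

noncomputable section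

namespace Groth.Agent.H9Existence

open Groth.Agent
open Groth.Agent.AmpleVan (scal)

section Alg

variable {A B C : Type u} [CommRing A] [CommRing B] [IsNoetherianRing B]
  [CommRing C] [Algebra A B] [Algebra B C] [Algebra A C] [IsScalarTower A B C] [Module.Finite B C]

/-- A finite algebra map which is bijective modulo all powers of an ideal is bijective away from an element congruent to one. -/
theorem exists_sub_one_mem_bijective_pow (m : Ideal A)
    (hs : ∀ c : C, ∃ b : B, c - algebraMap B C b ∈ m.map (algebraMap A C))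
    (hi : ∀ (n : ℕ) (b : B), algebraMap B C b = 0 → b ∈ (m ^ (n + 1)).map (algebraMap A B)) :
    ∃ r : B, r - 1 ∈ m.map (algebraMap A B) ∧
      (∀ c : C, ∃ b : B, algebraMap B C b = algebraMap B C r * c) ∧
      ∀ b : B, algebraMap B C b = 0 → r * b = 0 := by
  let I := m.map (algebraMap A B)
  have hIC : ∀ c : C, c ∈ I • (⊤ : Submodule B C) ↔ c ∈ m.map (algebraMap A C) := fun c => by
    rw [Ideal.smul_top_eq_map, Submodule.restrictScalars_mem, Ideal.map_map,
      ← IsScalarTower.algebraMap_eq]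
  -- the cokernel
  let u := Algebra.linearMap B C
  obtain ⟨r₁, hr₁, hc⟩ := Submodule.exists_sub_one_mem_and_smul_eq_zero_of_fg_of_le_smul I
    (⊤ : Submodule B (C ⧸ LinearMap.range u)) Module.Finite.fg_top (by
      rintro x -
      obtain ⟨c, rfl⟩ := Submodule.Quotient.mk_surjective _ x
      obtain ⟨b, hb⟩ := hs c
      let π := (LinearMap.range u).mkQ
      have h1 : π c = π (c - algebraMap B C b) := by
        rw [map_sub, eq_comm, sub_eq_self]
        exact (Submodule.Quotient.mk_eq_zero _).2 (LinearMap.mem_range_self u b)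
      have h2 : Submodule.map π (I • (⊤ : Submodule B C)) ≤ I • ⊤ := by
        rw [Submodule.map_smul'']
        exact Submodule.smul_mono le_rfl le_top
      show π c ∈ _
      rw [h1]
      exact h2 (Submodule.mem_map_of_mem ((hIC _).2 hb)))
  -- the kernel
  have hK : LinearMap.ker u ≤ I • LinearMap.ker u := fun x hx => by
    obtain ⟨⟨t, ht⟩, htx⟩ := (Ideal.mem_iInf_smul_pow_eq_bot_iff I x).1
      ((Submodule.mem_iInf _).2 fun n => by
        rw [smul_eq_mul, Ideal.mul_top, ← Ideal.map_pow]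
        exact Ideal.map_mono (Ideal.pow_le_pow_right n.le_succ) (hi n x hx))
    rw [← htx]
    exact Submodule.smul_mem_smul ht hx
  obtain ⟨r₂, hr₂, hk⟩ := Submodule.exists_sub_one_mem_and_smul_eq_zero_of_fg_of_le_smul I
    (LinearMap.ker u) (IsNoetherian.noetherian _) hK
  refine ⟨r₁ * r₂, ?_, fun c => ?_, fun b hb => ?_⟩
  · rw [show r₁ * r₂ - 1 = (r₁ - 1) * r₂ + (r₂ - 1) by ring]
    exact add_mem (Ideal.mul_mem_right _ _ hr₁) hr₂
  · have := hc (Submodule.Quotient.mk c) trivial
    rw [← Submodule.Quotient.mk_smul, Submodule.Quotient.mk_eq_zero] at this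
    obtain ⟨b, hb⟩ := this
    refine ⟨r₂ * b, ?_⟩
    rw [map_mul, map_mul, show algebraMap B C b = r₁ • c from hb, Algebra.smul_def]
    ring
  · have := hk b hb
    rw [smul_eq_mul] at this
    rw [mul_assoc, this, mul_zero]

end Alg

variable (A : Type u) [CommRing A] [IsNoetherianRing A]

set_option maxHeartbeats 1000000 in
/-- A map of proper schemes over a base complete along an ideal in the radical is an isomorphism
when all its thickenings are. -/
theorem isIso_of_thickenings {X P : Scheme.{u}} [X.Over (Spec (CommRingCat.of A))] [P.Over (Spec (CommRingCat.of A))]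
    [IsProper (X ↘ Spec (CommRingCat.of A))] [IsProper (P ↘ Spec (CommRingCat.of A))] (f : X ⟶ P)
    (hf : f ≫ (P ↘ Spec (CommRingCat.of A)) = X ↘ Spec (CommRingCat.of A)) {I : Ideal A}
    (hI : I ≤ Ideal.jacobson ⊥) {Z : ℕ → Scheme.{u}} {i : ∀ n, Z n ⟶ X} {j : ∀ n, Z n ⟶ P}
    {q : ∀ n, Z n ⟶ Spec (CommRingCat.of (A ⧸ I ^ (n + 1)))}
    (sqX : ∀ n, IsPullback (i n) (q n) (X ↘ Spec (CommRingCat.of A)) (CohB1.specQuot I n))
    (sqP : ∀ n, IsPullback (j n) (q n) (P ↘ Spec (CommRingCat.of A)) (CohB1.specQuot I n))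
    (hij : ∀ n, i n ≫ f = j n) : IsIso f := by
  let m := I ^ (0 + 1)
  have hm : m ≤ Ideal.jacobson ⊥ := (Ideal.pow_le_self (Nat.succ_ne_zero 0)).trans hI
  haveI hcl : ∀ n, IsClosedImmersion (CohB1.specQuot I n) := fun n =>
    IsClosedImmersion.spec_of_surjective _ Ideal.Quotient.mk_surjective
  haveI : ∀ n, IsClosedImmersion (i n) := fun n => MorphismProperty.of_isPullback (sqX n).flip (hcl n)
  haveI : ∀ n, IsClosedImmersion (j n) := fun n => MorphismProperty.of_isPullback (sqP n).flip (hcl n)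
  haveI : IsProper (f ≫ (P ↘ Spec (CommRingCat.of A))) := by rw [hf]; infer_instance
  haveI : IsProper f := IsProper.of_comp f (P ↘ Spec (CommRingCat.of A))
  haveI : IsLocallyNoetherian P := LocallyOfFiniteType.isLocallyNoetherian (P ↘ Spec (CommRingCat.of A))
  -- `f` is finite
  have hfib : ∀ z : Z 0, f ⁻¹' {f (i 0 z)} ⊆ {i 0 z} := fun z x hx => by
    have hx' : f x = j 0 z := by rw [← hij]; exact hx
    obtain ⟨z', rfl⟩ : x ∈ Set.range (i 0) := by
      refine (range_of_isPullback (sqX 0)).ge ?_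
      rw [← hf, Set.mem_preimage, Scheme.Hom.comp_apply]
      rw [hx']
      exact (range_of_isPullback (sqP 0)).le ⟨z, rfl⟩
    have : j 0 z' = j 0 z := by rw [← hx', ← hij]; rfl
    rw [Set.mem_singleton_iff, (j 0).isClosedEmbedding.injective this]
  have hq : ∀ z : Z 0, i 0 z ∈ f.quasiFiniteLocus := fun z => by
    haveI : Finite (f.fiber (f (i 0 z))) := (f.fiberHomeo (f (i 0 z))).finite_iff.mpr
      ((Set.finite_singleton _).subset (hfib z)).to_subtype
    exact Scheme.Hom.quasiFiniteAt_iff_isOpen_singleton_asFiber.mpr (isOpen_discrete _)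
  haveI : LocallyQuasiFinite f := by
    rw [← Scheme.Hom.quasiFiniteLocus_eq_top_iff, eq_top_iff]
    intro x _
    obtain ⟨_, ⟨z, rfl⟩, hxz⟩ := exists_specializes_range (sqX 0) hm x
    exact hxz.mem_open f.quasiFiniteLocus.2 (hq z)
  haveI := IsFinite.of_isProper_of_locallyQuasiFinite f
  -- near the closed fibre of the target
  have key : ∀ z : Z 0, ∃ D : P.Opens, j 0 z ∈ D ∧ IsIso (f ∣_ D) := fun z => by
    obtain ⟨_, ⟨U, hU, rfl⟩, hzU, -⟩ :=
      P.isBasis_affineOpens.exists_subset_of_mem_open (Set.mem_univ (j 0 z)) isOpen_univ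
    have hU' : IsAffineOpen U := hU
    have hV : IsAffineOpen (f ⁻¹ᵁ U) := hU'.preimage f
    letI : Algebra A Γ(P, U) := (scal A U).toAlgebra
    letI : Algebra A Γ(X, f ⁻¹ᵁ U) := (scal A (f ⁻¹ᵁ U)).toAlgebra
    letI : Algebra Γ(P, U) Γ(X, f ⁻¹ᵁ U) := (f.app U).hom.toAlgebra
    haveI : Module.Finite Γ(P, U) Γ(X, f ⁻¹ᵁ U) := f.finite_app U hU'
    haveI : IsScalarTower A Γ(P, U) Γ(X, f ⁻¹ᵁ U) := IsScalarTower.of_algebraMap_eq fun c => by
      show scal A (f ⁻¹ᵁ U) c = f.app U (Coh.resTop P (op U) _)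
      rw [AmpleVan.resTop_app]
      exact (congrArg (Coh.resTop X (op (f ⁻¹ᵁ U)))
        congr(($hf).appTop ((Scheme.ΓSpecIso (CommRingCat.of A)).inv c))).symm
    haveI : IsNoetherianRing Γ(P, U) := IsLocallyNoetherian.component_noetherian ⟨U, hU'⟩
    have hkP : ∀ (n : ℕ) (b : Γ(P, U)),
        b ∈ (I ^ (n + 1)).map (algebraMap A Γ(P, U)) ↔ (j n).app U b = 0 := fun n b => by
      rw [show (I ^ (n + 1)).map (algebraMap A Γ(P, U)) = _ from
        (AmpleVan.ker_ideal_of_isPullback (sqP n) ⟨U, hU'⟩).symm, FComplLib.ideal_ker, RingHom.mem_ker]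
    obtain rfl : j = fun n => i n ≫ f := funext fun n => (hij n).symm
    have hkX : ∀ c : Γ(X, f ⁻¹ᵁ U), c ∈ m.map (algebraMap A Γ(X, f ⁻¹ᵁ U)) ↔ (i 0).app (f ⁻¹ᵁ U) c = 0 := fun c => by
      rw [show m.map (algebraMap A Γ(X, f ⁻¹ᵁ U)) = _ from
        (AmpleVan.ker_ideal_of_isPullback (sqX 0) ⟨f ⁻¹ᵁ U, hV⟩).symm, FComplLib.ideal_ker, RingHom.mem_ker]
    obtain ⟨r, hr1, hrs, hri⟩ := exists_sub_one_mem_bijective_pow m (B := Γ(P, U)) (C := Γ(X, f ⁻¹ᵁ U))
      (fun c => by
        obtain ⟨b, hb⟩ := (i 0 ≫ f).app_surjective U hU' ((i 0).app (f ⁻¹ᵁ U) c)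
        refine ⟨b, (hkX _).2 ?_⟩
        rw [map_sub, sub_eq_zero]
        exact hb.symm)
      (fun n b hb => by
        show b ∈ ((I ^ (0 + 1)) ^ (n + 1)).map _
        rw [← pow_mul, zero_add, one_mul]
        refine (hkP n b).2 ?_
        show (i n).app (f ⁻¹ᵁ U) (f.app U b) = 0
        rw [show f.app U b = 0 from hb, map_zero])
    refine ⟨P.basicOpen r, ?_, ?_⟩
    · have h0 := (hkP 0 _).1 hr1
      rw [map_sub, map_one, sub_eq_zero] at h0
      have h1 : z ∈ (i 0 ≫ f) ⁻¹ᵁ P.basicOpen r := by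
        rw [Scheme.preimage_basicOpen, h0, Scheme.basicOpen_of_isUnit _ isUnit_one]
        exact hzU
      exact h1
    · haveI : IsAffine (P.basicOpen r).toScheme := hU'.basicOpen r
      refine (HasAffineProperty.iff_of_isAffine (P := MorphismProperty.isomorphisms Scheme.{u})).2
        ⟨(hU'.basicOpen r).preimage f, ?_⟩
      rw [morphismRestrict_appTop]
      haveI : IsIso (f.app ((P.basicOpen r).ι ''ᵁ ⊤)) := by
        rw [Scheme.Opens.ι_image_top]
        refine ((MorphismProperty.isomorphisms CommRingCat).arrow_mk_iso_iff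
          (IsAffineOpen.appBasicOpenIsoAwayMap f hU' hV r)).2 ?_
        haveI := hU'.isLocalization_basicOpen r
        haveI := hV.isLocalization_basicOpen (f.app U r)
        exact (ConcreteCategory.isIso_iff_bijective _).2 (bijective_awayMap (f.app U).hom r _ _ hrs hri)
      infer_instance
  choose D hzD hD using key
  refine IsZariskiLocalAtTarget.of_iSup_eq_top (P := MorphismProperty.isomorphisms Scheme.{u}) D ?_ hD
  rw [eq_top_iff]
  intro p _
  obtain ⟨_, ⟨z, rfl⟩, hpz⟩ := exists_specializes_range (sqP 0) hm p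
  exact Opens.mem_iSup.2 ⟨z, hpz.mem_open (D z).2 (hzD z)⟩

end Groth.Agent.H9Existence

end
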